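import Groth.Agent.Lib.CurveAmple18.PointTwist
import Groth.Agent.Lib.CurveAmple18.Main
import Groth.Agent.Lib.CurveCoh17.Section
import Groth.Agent.Lib.CurveVA17.GG
import Groth.Agent.Lib.VB17.TwistBound
import Groth.Agent.Lib.VB17.Proper
import Groth.Agent.S2618
import Groth.Agent.S12460
import Mathlib.Algebra.Module.Submodule.Union

/-!
# Minimal regular points of a curve with `H¹(O) = 0` over an infinite field
-/

set_option autoImplicit false
set_option linter.style.haveILetI false
set_option backward.isDefEq.respectTransparency.types false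
set_option maxHeartbeats 800000

universe u

open CategoryTheory CategoryTheory.Limits AlgebraicGeometry TopologicalSpace Opposite

namespace Groth.Agent.MinDegPts12

open Groth.Agent.M1 Groth.Agent.M2 Groth.Agent.CurveCoh17

variable {k : Type u} [Field k] {X : Scheme.{u}} [X.Over (Spec (CommRingCat.of k))]

attribute [local instance] stalkMod Curv2.resAlgebra

/-- The regular locus of a scheme of finite type over a field is open. -/
theorem isOpen_reg [IsNoetherian X] [LocallyOfFiniteType (X ↘ Spec (CommRingCat.of k))] :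
    IsOpen {x : X | IsRegularLocalRing (X.presheaf.stalk x)} := by
  refine (S12460.result (Spec (CommRingCat.of k))).2.2 (fun _ => ⟨⟨⊤, isAffineOpen_top _⟩, trivial, ?_⟩)
    X (X ↘ Spec (CommRingCat.of k)) inferInstance
  intro S _ _ hS
  haveI : IsField Γ(Spec (CommRingCat.of k), ⊤) :=
    MulEquiv.isField (Field.toIsField k) (Scheme.ΓSpecIso (CommRingCat.of k)).commRingCatIsoToRingEquiv.toMulEquiv
  letI := (this : IsField Γ(Spec (CommRingCat.of k), ⊤)).toField
  exact S2618.result Γ(Spec (CommRingCat.of k), ⊤) S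

theorem isClosed_of_ne_genericPoint [IsIntegral X] (hd : topologicalKrullDim X ≤ 1) {y : X}
    (hy : y ≠ genericPoint X) : IsClosed ({y} : Set X) := by
  refine isClosed_of_closure_subset fun z hz => ?_
  by_contra hne
  let cl : X → IrreducibleCloseds X := fun a => ⟨closure {a}, isIrreducible_singleton.closure, isClosed_closure⟩
  have hlt : ∀ {a b : X}, b ⤳ a → a ≠ b → cl a < cl b := fun {a b} h hab => by
    refine Set.ssubset_iff_subset_ne.mpr ⟨specializes_iff_closure_subset.mp h, fun he => hab ?_⟩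
    exact (Inseparable.eq (inseparable_iff_closure_eq.mpr he))
  have h1 := hlt (specializes_iff_mem_closure.mpr hz) hne
  have h2 := hlt ((genericPoint_spec X).specializes (Set.mem_univ y)) hy
  have h := (Order.LTSeries.length_le_krullDim (((RelSeries.singleton _ (cl z)).snoc (cl y) h1).snoc
    (cl (genericPoint X)) (by rw [RelSeries.last_snoc]; exact h2))).trans hd
  exact absurd h (by simp [RelSeries.snoc, RelSeries.append])

theorem finite_of_not_mem [IsIntegral X] [IsNoetherian X] (hd : topologicalKrullDim X ≤ 1) {Z : Set X}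
    (hZ : IsClosed Z) (hη : genericPoint X ∉ Z) : Z.Finite := by
  obtain ⟨S, hS, hcl, hirr, hSZ⟩ := NoetherianSpace.exists_finite_set_isClosed_irreducible hZ
  rw [hSZ, Set.sUnion_eq_biUnion]
  refine hS.biUnion fun C hC => ?_
  obtain ⟨a, ha⟩ := QuasiSober.sober (hirr C hC) (hcl C hC)
  have haC : a ∈ C := ha.mem
  rw [← ha.def, (isClosed_of_ne_genericPoint hd (fun h => hη (h ▸ hSZ.ge ⟨C, hC, haC⟩))).closure_eq]
  exact Set.finite_singleton a

/-- The restriction to a point of a section vanishes iff the section does not generate there. -/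
theorem atPoint_eq_zero_iff {x : X} (hx : IsClosed ({x} : Set X)) {L : X.Modules} (hL : PicF.IsInvertible L)
    (w : Coh.HH X L 0) :
    atPoint k hx L w = 0 ↔ ¬ Amp.Gen (Amp.gm L x (U := ⊤) trivial (hh0 L w)) := by
  obtain ⟨e⟩ := nonempty_stalk_equiv ((isInvertible_iff_isFinLocFreeOfRank_one L).1 hL) x
  set Z := Scheme.IdealSheafData.vanishingIdeal (⟨{x}, hx⟩ : Closeds X)
  obtain ⟨hkill, a₀, ha₀⟩ := quot_point_props hx
  let ψ := stalkLin ((tensorLUnit L).inv ≫ (pointSC hx L).g) x
  have hψkill : ∀ r ∈ IsLocalRing.maximalIdeal (X.presheaf.stalk x), ∀ a, r • ψ a = 0 := fun r hr a => by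
    refine (stalkEquiv (ClSub.quotMod Z) L x).injective ?_
    refine ((stalkEquiv (ClSub.quotMod Z) L x).map_smul _ _).trans (Eq.trans ?_ (map_zero _).symm)
    induction stalkEquiv (ClSub.quotMod Z) L x (ψ a) using TensorProduct.induction_on with
    | zero => exact smul_zero _
    | tmul p q => rw [TensorProduct.smul_tmul', hkill _ hr, TensorProduct.zero_tmul]
    | add p q hp hq => rw [smul_add, hp, hq, add_zero]
  have hgerm : ((pointSC hx L).X₃.presheaf.germ ⊤ x trivial (hh0 _ (atPoint k hx L w)) :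
      (pointSC hx L).X₃.presheaf.stalk x) = ψ (L.presheaf.germ ⊤ x trivial (hh0 L w)) := by
    rw [atPoint, hh0_hmap]
    exact (germ_naturality _ _ _ _ _).symm
  constructor
  · intro h0 hg
    have hz : ψ (L.presheaf.germ ⊤ x trivial (hh0 L w)) = 0 := by
      rw [← hgerm, h0, map_zero, map_zero]
    have hψ : ∀ a, ψ a = 0 := fun a => by
      obtain ⟨c, rfl⟩ := hg.2 a
      show ψ (c • (L.presheaf.germ ⊤ x trivial (hh0 L w) : L.presheaf.stalk x)) = 0
      rw [map_smul, hz, smul_zero]
    haveI : Epi ((tensorLUnit L).inv ≫ (pointSC hx L).g) :=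
      @epi_comp _ _ _ _ _ _ inferInstance _ (twistSES hL Z).epi_g
    obtain ⟨a, ha⟩ := (epi_iff_stalk ((tensorLUnit L).inv ≫ (pointSC hx L).g)).1 inferInstance x
      ((stalkTensorPi (ClSub.quotMod Z) L x e).symm fun _ => a₀)
    erw [hψ a] at ha
    exact ha₀ (congrFun ((stalkTensorPi (ClSub.quotMod Z) L x e).symm.injective
      (ha.symm.trans (map_zero _).symm)) 0)
  · intro hng
    refine (hh0 _).injective ?_
    rw [map_zero]
    refine ((suppIn_quotMod_point hx).tensor L).section_ext _ _ fun y hy _ => ?_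
    obtain rfl := Finset.mem_singleton.1 hy
    refine hgerm.trans (Eq.trans ?_ (map_zero _).symm)
    set g : L.presheaf.stalk y := L.presheaf.germ ⊤ y trivial (hh0 L w) with hgdef
    have ht : g = e g 0 • e.symm 1 := by
      apply e.injective
      funext i
      rw [Fin.fin_one_eq_zero i, map_smul, LinearEquiv.apply_symm_apply, Pi.smul_apply, Pi.one_apply, smul_eq_mul,
        mul_one]
    have hm : e g 0 ∈ IsLocalRing.maximalIdeal (X.presheaf.stalk y) := by
      by_contra hu
      rw [IsLocalRing.mem_maximalIdeal, mem_nonunits_iff, not_not] at hu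
      obtain ⟨v, hv⟩ := hu
      refine hng ⟨fun a b hab => ?_, fun a => ⟨e a 0 * ↑v⁻¹, e.injective (funext fun i => ?_)⟩⟩
      · have h2 := congrFun (congrArg e (hab : a • g = b • g)) 0
        simp only [map_smul, Pi.smul_apply, smul_eq_mul] at h2
        exact v.mul_left_inj.1 (hv.symm ▸ h2)
      · rw [Fin.fin_one_eq_zero i]
        show e ((e a 0 * ↑v⁻¹) • g) 0 = e a 0
        rw [map_smul, Pi.smul_apply, smul_eq_mul, ← hv, mul_assoc, Units.inv_mul, mul_one]
    rw [ht, map_smul]
    exact hψkill _ hm _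

variable [Infinite k] [IsIntegral X] [IsProper (X ↘ Spec (CommRingCat.of k))]

theorem infinite_min (hdim : topologicalKrullDim X = 1) (h1 : Subsingleton (Coh.HH X (Coh.structureModule X) 1)) :
    {P : X | ∃ _ : IsClosed ({P} : Set X), IsRegularLocalRing (X.presheaf.stalk P) ∧
      ∀ (Q : X), IsClosed ({Q} : Set X) → IsRegularLocalRing (X.presheaf.stalk Q) →
        Module.finrank k (X.residueField P) ≤ Module.finrank k (X.residueField Q)}.Infinite := by
  classical
  have hX : CurveLike k X := VB17.curveLike hdim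
  haveI := hX.noetherian
  haveI := hX.separated
  haveI : JacobsonSpace X := LocallyOfFiniteType.jacobsonSpace (X ↘ Spec (CommRingCat.of k))
  let Reg : Set X := {x | IsRegularLocalRing (X.presheaf.stalk x)}
  have hRo : IsOpen Reg := isOpen_reg (k := k)
  have hηR : genericPoint X ∈ Reg := by
    show IsRegularLocalRing X.functionField
    infer_instance
  have hS : (Regᶜ).Finite := finite_of_not_mem hdim.le hRo.isClosed_compl (fun h => h hηR)
  -- a minimal point
  have hne : {d : ℕ | ∃ P : X, IsClosed ({P} : Set X) ∧ P ∈ Reg ∧ Module.finrank k (X.residueField P) = d}.Nonempty := by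
    obtain ⟨P, hP, hPc⟩ := nonempty_inter_closedPoints (Z := Reg) ⟨_, hηR⟩ hRo.isLocallyClosed
    exact ⟨_, P, hPc, hP, rfl⟩
  obtain ⟨P, hPc, hPR, hd0⟩ := Nat.sInf_mem hne
  have hmin : ∀ Q : X, IsClosed ({Q} : Set X) → Q ∈ Reg →
      Module.finrank k (X.residueField P) ≤ Module.finrank k (X.residueField Q) :=
    fun Q hQ hQR => hd0.le.trans (Nat.sInf_le ⟨Q, hQ, hQR, rfl⟩)
  -- the invertible module of the point
  haveI : IsRegularLocalRing (X.presheaf.stalk P) := hPR
  have hI := CurveAmple18.isInvertible_pointIdeal_at hdim hPc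
  obtain ⟨L, hL, ⟨eL⟩⟩ := M2.exists_inverse hI
  have hdeg : Curv2.deg k X L 1 = Module.finrank k (X.residueField P) := by
    have h := hX.deg_of_tensor_iso hI hL eL
    have := VB17.deg_pointIdeal (k := k) hX hPc
    omega
  have hpos : 0 < Module.finrank k (X.residueField P) := by
    rw [← finrank_quotMod_point (k := k) hPc]
    haveI := hX.fin _ (isCoh_quotMod (Scheme.IdealSheafData.vanishingIdeal (⟨{P}, hPc⟩ : Closeds X))) 0
    rw [Module.finrank_pos_iff (R := k)]
    by_contra hn
    rw [not_nontrivial_iff_subsingleton] at hn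
    obtain ⟨-, a₀, ha₀⟩ := quot_point_props hPc
    obtain ⟨z, hz⟩ := ((suppIn_quotMod_point hPc).h0Equiv k).surjective fun y =>
      if h : (y : X) = P then h.symm ▸ a₀ else 0
    have h2 := congrFun hz ⟨P, Finset.mem_singleton_self P⟩
    rw [dif_pos rfl, Subsingleton.elim z 0, map_zero] at h2
    exact ha₀ h2.symm
  haveI : Nontrivial (Coh.HH X L 0) := by
    haveI := hX.fin L (isCoh_of_ofRank ((isInvertible_iff_isFinLocFreeOfRank_one L).1 hL)) 0
    refine (Module.finrank_pos_iff (R := k)).1 ?_
    have he : Curv2.euler k X L = Curv2.deg k X L 1 + Curv2.euler k X (Coh.structureModule X) := by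
      simp [Curv2.deg]
    rw [(hX.adm (isCoh_of_ofRank ((isInvertible_iff_isFinLocFreeOfRank_one L).1 hL))).euler_eq,
      (hX.adm isCoh_structureModule).euler_eq, Module.finrank_zero_of_subsingleton
        (M := Coh.HH X (Coh.structureModule X) 1)] at he
    omega
  have hR1 := rkOne_of_invertible hdim.le hL
  have hgg : Curv2.IsGloballyGenerated L := by
    obtain ⟨z, hz⟩ := exists_ne (0 : Coh.HH X L 0)
    obtain ⟨hm, S, hS⟩ := hR1.sec _ (hh0_ne_zero hz)
    haveI := hm
    exact CurveVA17.isGloballyGenerated_of_h1 k hL _ hS h1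
  intro hfin
  set B := ({x : X | IsClosed ({x} : Set X)} ∩ Regᶜ) ∪ _ with hB
  have hBfin : B.Finite := (hS.inter_of_right _).union hfin
  have hBc : ∀ x ∈ B, IsClosed ({x} : Set X) := fun x hx => hx.elim (fun h => h.1) (fun h => h.1)
  haveI : Finite B := hBfin.to_subtype
  let p : Option B → Submodule k (Coh.HH X L 0) := fun o =>
    o.elim ⊥ fun x => LinearMap.ker (atPoint k (hBc x.1 x.2) L)
  have hp : ∀ o, p o ≠ ⊤ := by
    rintro (_ | ⟨x, hx⟩) h
    · exact bot_ne_top h
    · obtain ⟨t, ht⟩ := RA.exists_gen_of_isGloballyGenerated hL hgg x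
      have hg := (Amp.mem_genLocus_iff hL t).1 ht
      have h0 : (hh0 L).symm (Amp.gval t) ∈ p (some ⟨x, hx⟩) := h.symm ▸ Submodule.mem_top
      refine (atPoint_eq_zero_iff (hBc x hx) hL _).1 h0 ?_
      rwa [AddEquiv.apply_symm_apply]
  obtain ⟨w, hw⟩ := Submodule.exists_forall_notMem_of_forall_ne_top p hp
  have hw0 : w ≠ 0 := fun h => hw none (h ▸ Submodule.zero_mem _)
  -- a point where `w` does not generate
  have hnot : ∃ Q : X, ¬ Amp.Gen (Amp.gm L Q (U := ⊤) trivial (hh0 L w)) := by
    by_contra hall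
    push Not at hall
    haveI := CurveAmple18.isIso_of_genLocus_eq_top hL (secHom (hh0 L w))
      (Amp.genLocus_eq_of_forall hL _ ⊤ fun x => by
        rw [Amp.gval_secHom]
        exact iff_of_true (hall x) trivial)
    have := deg_iso (k := k) (r := 1) (asIso (secHom (hh0 L w)))
    rw [deg_structureModule] at this
    omega
  obtain ⟨Q, hQ⟩ := hnot
  have hQc : IsClosed ({Q} : Set X) := isClosed_of_ne_genericPoint hdim.le (by
    rintro rfl
    exact hQ (span_germ_genericPoint hL (hh0_ne_zero hw0)))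
  have hQB : Q ∉ B := fun h => hw (some ⟨Q, h⟩) ((atPoint_eq_zero_iff (k := k) (hBc Q h) hL w).2 hQ)
  have hQR : Q ∈ Reg := by_contra fun h => hQB (Or.inl ⟨hQc, h⟩)
  refine hQB (Or.inr ⟨hQc, hQR, fun R hR hRR => le_trans ?_ (hmin R hR hRR)⟩)
  -- the degree of `Q` is at most that of `P`
  haveI : IsRegularLocalRing (X.presheaf.stalk Q) := hQR
  have hIQ := CurveAmple18.isInvertible_pointIdeal_at hdim hQc
  obtain ⟨hle, he⟩ := finrank_twist_point hX hL hQc
  haveI := hX.fin L (isCoh_of_ofRank ((isInvertible_iff_isFinLocFreeOfRank_one L).1 hL)) 0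
  have hrange : Module.finrank k (LinearMap.range (atPoint k hQc L)) < Module.finrank k (Coh.HH X L 0) := by
    have := LinearMap.finrank_range_add_finrank_ker (atPoint k hQc L)
    have hk : 0 < Module.finrank k (LinearMap.ker (atPoint k hQc L)) := by
      rw [Module.finrank_pos_iff (R := k)]
      exact ⟨⟨w, (atPoint_eq_zero_iff hQc hL w).2 hQ⟩, 0, fun h => hw0 (congrArg Subtype.val h)⟩
    omega
  have hT := isInvertible_tensor hL hIQ
  haveI : Nontrivial (Coh.HH X (CohB1.tensorMod L
      (ClSub.idealMod (Scheme.IdealSheafData.vanishingIdeal (⟨{Q}, hQc⟩ : Closeds X)))) 0) := by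
    refine Module.nontrivial_of_finrank_pos (R := k) ?_
    omega
  have hnn := (hX.deg_nonneg (rkOne_of_invertible hdim.le hT) inferInstance).1
  rw [hX.deg_tensor_invertible hL hIQ, VB17.deg_pointIdeal hX hQc, hdeg] at hnn
  omega

end Groth.Agent.MinDegPts12
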